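import Groth.Prelude.Def_Mor2
import Groth.Agent.HopfLib.SchemeCartier
import Groth.Agent.AbSchLib.SmoothReduced
import Mathlib.RingTheory.Flat.EquationalCriterion
import Mathlib.RingTheory.LinearDisjoint
import Mathlib.RingTheory.DiscreteValuationRing.Basic

/-! A finite flat group scheme over a local domain of characteristic zero is killed by its order. -/

open CategoryTheory CategoryTheory.Limits AlgebraicGeometry
open scoped TensorProduct MonObj

noncomputable section

namespace Groth.Agent.FinGrpLib

set_option backward.isDefEq.respectTransparency.types false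

universe u

theorem algHom_separates {K B : Type u} [Field K] [IsAlgClosed K] [CommRing B] [Algebra K B] [Module.Finite K B]
    [IsReduced B] {b : B} (h : ∀ χ : B →ₐ[K] K, χ b = 0) : b = 0 := by
  have : IsArtinianRing B := IsArtinianRing.of_finite K B
  refine IsReduced.eq_zero b (mem_nilradical.1 ?_)
  rw [nilradical_eq_sInf, Ideal.mem_sInf]
  intro P hP
  have : P.IsPrime := hP
  have : P.IsMaximal := IsArtinianRing.isMaximal_of_isPrime P
  let := Ideal.Quotient.field P
  let e : K ≃ₐ[K] B ⧸ P := AlgEquiv.ofBijective (Algebra.ofId K (B ⧸ P)) IsAlgClosed.algebraMap_bijective_of_isIntegral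
  have := congrArg e (h (e.symm.toAlgHom.comp (Ideal.Quotient.mkₐ K P)))
  simpa [Ideal.Quotient.eq_zero_iff_mem] using this

theorem natCard_algHom {K B : Type u} [Field K] [IsAlgClosed K] [CommRing B] [Algebra K B] [Module.Finite K B]
    [IsReduced B] : Nat.card (B →ₐ[K] K) = Module.finrank K B := by
  classical
  let ev : B →ₗ[K] ((B →ₐ[K] K) → K) := LinearMap.pi fun χ => χ.toLinearMap
  have hinj : Function.Injective ev := by
    rw [injective_iff_map_eq_zero]
    exact fun b hb => algHom_separates fun χ => congrFun hb χ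
  have : Fintype (B →ₐ[K] K) := minpoly.AlgHom.fintype K B K
  refine le_antisymm ?_ ?_
  · rw [Nat.card_eq_fintype_card]
    exact (linearIndependent_toLinearMap K B K).fintype_card_le_finrank.trans
      (by rw [Module.finrank_linearMap, Module.finrank_self, mul_one])
  · refine (LinearMap.finrank_le_finrank_of_injective hinj).trans ?_
    rw [Module.finrank_pi, Nat.card_eq_fintype_card]

theorem pow_deg_eq_one (R : Type u) [CommRing R] [IsDomain R] [IsLocalRing R] [CharZero R]
    (G : Over (Spec (CommRingCat.of R))) [GrpObj G] (m : ℕ) (hG : Mor2.IsFinLocFreeOfDeg m G.hom) :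
    (𝟙 G : G ⟶ G) ^ m = 1 := by
  obtain ⟨⟨hfin, hflat, -⟩, hdeg⟩ := hG
  have : IsAffine G.left := isAffine_of_isAffineHom G.hom
  let φ : CommRingCat.of R ⟶ Γ(G.left, ⊤) := (Scheme.ΓSpecIso (CommRingCat.of R)).inv ≫ G.hom.appTop
  have hφ : G.left.isoSpec.inv ≫ G.hom = Spec.map φ := by
    rw [Iso.inv_comp_eq]
    simp only [φ, Spec.map_comp, ← Category.assoc, Scheme.isoSpec_hom_naturality]
    simp [Scheme.isoSpec_Spec_hom]
  algebraize [φ.hom]
  let A : Type u := Γ(G.left, ⊤)
  have hflat' : Flat (Spec.map φ) := by rw [← hφ]; infer_instance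
  have hfin' : IsFinite (Spec.map φ) := by rw [← hφ]; infer_instance
  have : Module.Finite R A := (IsFinite.SpecMap_iff φ).1 hfin'
  have : Module.Flat R A := Flat.SpecMap_iff.1 hflat'
  have : Module.Free R A := Module.free_of_flat_of_isLocalRing
  have hrank : Module.finrank R A = m := by
    have h1 := congrFun (Scheme.Hom.finrank_comp_left_of_isIso G.left.isoSpec.inv G.hom) (IsLocalRing.closedPoint R)
    rw [hφ, hdeg] at h1
    have h2 := Scheme.Hom.finrank_SpecMap_algebraMap R A (IsLocalRing.closedPoint R)
    have h3 : Module.rankAtStalk (R := R) A (IsLocalRing.closedPoint R) = m := h2.symm.trans h1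
    simpa [Module.rankAtStalk_eq_finrank_of_free] using h3
  let K := AlgebraicClosure (FractionRing R)
  have hRK : Function.Injective (algebraMap R K) := by
    rw [IsScalarTower.algebraMap_eq R (FractionRing R) K]
    exact (algebraMap (FractionRing R) K).injective.comp (IsFractionRing.injective R _)
  have : CharZero K := charZero_of_injective_algebraMap hRK
  let σ : Spec (CommRingCat.of K) ⟶ Spec (CommRingCat.of R) := Spec.map (CommRingCat.ofHom (algebraMap R K))
  -- the geometric generic fibre is reduced
  have hred : IsReduced (K ⊗[R] A) := by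
    letI : GrpObj ((Over.pullback σ).obj G) := Functor.grpObjObj
    have : LocallyOfFiniteType ((Over.pullback σ).obj G).hom :=
      inferInstanceAs (LocallyOfFiniteType (pullback.snd G.hom σ))
    have hs : Smooth (pullback.snd G.hom σ) := HopfLib.smooth_of_grpObj ((Over.pullback σ).obj G)
    have : AlgebraicGeometry.IsReduced (pullback G.hom σ) := AbSchLib.isReduced_of_smooth (pullback.snd G.hom σ)
    let e : pullback G.hom σ ≅ Spec (CommRingCat.of (K ⊗[R] A)) :=
      asIso (pullback.map G.hom σ (Spec.map φ) σ G.left.isoSpec.hom (𝟙 _) (𝟙 _)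
        (by rw [Category.comp_id, ← hφ, Iso.hom_inv_id_assoc]) (by simp)) ≪≫
        pullbackSymmetry _ _ ≪≫ pullbackSpecIso R K A
    have : AlgebraicGeometry.IsReduced (Spec (CommRingCat.of (K ⊗[R] A))) := isReduced_of_isOpenImmersion e.inv
    exact affine_isReduced_iff (CommRingCat.of (K ⊗[R] A)) |>.1 this
  let T : Over (Spec (CommRingCat.of R)) := Over.mk σ
  let pt : (K ⊗[R] A →ₐ[K] K) → (T ⟶ G) := fun χ =>
    Over.homMk (Spec.map (CommRingCat.ofHom ((χ.restrictScalars R).comp Algebra.TensorProduct.includeRight : A →ₐ[R] K).toRingHom) ≫ G.left.isoSpec.inv) (by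
      show (_ ≫ _) ≫ G.hom = σ
      rw [Category.assoc, hφ, ← Spec.map_comp]
      congr 1
      ext r
      exact ((χ.restrictScalars R).comp Algebra.TensorProduct.includeRight : A →ₐ[R] K).commutes r)
  have hpt : Function.Bijective pt := by
    constructor
    · intro χ χ' h
      have h' := congrArg (fun f : T ⟶ G => f.left) h
      simp only [pt, Over.homMk_left, cancel_mono] at h'
      have h'' := congrArg CommRingCat.Hom.hom (Spec.map_injective h')
      refine Algebra.TensorProduct.ext (Subsingleton.elim _ _) (AlgHom.ext fun a => ?_)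
      exact congrArg (fun f : A →+* K => f a) h''
    · intro e
      obtain ⟨ψ, hψ⟩ := Spec.map_surjective (e.left ≫ G.left.isoSpec.hom)
      have hψR : φ ≫ ψ = CommRingCat.ofHom (algebraMap R K) := Spec.map_injective (by
        rw [Spec.map_comp, hψ, ← hφ, Category.assoc, Iso.hom_inv_id_assoc]
        exact Over.w e)
      let ψ' : A →ₐ[R] K := { ψ.hom with commutes' := fun r => congrArg (fun f : CommRingCat.of R ⟶ CommRingCat.of K => f.hom r) hψR }
      refine ⟨Algebra.TensorProduct.lift (Algebra.ofId K K) ψ' (fun _ _ => Commute.all _ _), ?_⟩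
      ext1
      simp only [pt, Over.homMk_left]
      rw [Iso.comp_inv_eq, ← hψ]
      congr 1
      ext a
      simp [ψ']
  have hcard : Nat.card (T ⟶ G) = m := by
    rw [← Nat.card_eq_of_bijective pt hpt, natCard_algHom, Module.finrank_baseChange, hrank]
  ext1
  refine ext_of_isAffine (CommRingCat.hom_ext (RingHom.ext fun a => ?_))
  let d : A := ((𝟙 G : G ⟶ G) ^ m).left.appTop a - (1 : G ⟶ G).left.appTop a
  have hd : ∀ χ : K ⊗[R] A →ₐ[K] K, χ (1 ⊗ₜ d) = 0 := by
    intro χ
    have h1 : pt χ ≫ (𝟙 G : G ⟶ G) ^ m = pt χ ≫ 1 := by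
      rw [MonObj.comp_pow, Category.comp_id, MonObj.comp_one, ← hcard]
      exact pow_card_eq_one'
    have h2 := congrArg (fun f : T ⟶ G => f.left.appTop a) h1
    simp only [Over.comp_left, Scheme.Hom.comp_appTop, CommRingCat.comp_apply] at h2
    let χ' : A →ₐ[R] K := (χ.restrictScalars R).comp Algebra.TensorProduct.includeRight
    have h3 : (Spec.map (CommRingCat.ofHom χ'.toRingHom) ≫ G.left.isoSpec.inv).appTop =
        CommRingCat.ofHom χ'.toRingHom ≫ (Scheme.ΓSpecIso (CommRingCat.of K)).inv := by
      have hinv : G.left.isoSpec.inv.appTop = (Scheme.ΓSpecIso Γ(G.left, ⊤)).inv := by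
        rw [← cancel_mono (Scheme.ΓSpecIso Γ(G.left, ⊤)).hom, Iso.inv_hom_id, ← Scheme.toSpecΓ_appTop G.left]
        show G.left.isoSpec.inv.appTop ≫ G.left.isoSpec.hom.appTop = _
        rw [← Scheme.Hom.comp_appTop, Iso.hom_inv_id, Scheme.Hom.id_appTop]
      rw [Scheme.Hom.comp_appTop, hinv, Scheme.ΓSpecIso_inv_naturality]
      rfl
    simp only [pt, Over.homMk_left] at h2
    rw [h3] at h2
    have h4 := congrArg (Scheme.ΓSpecIso (CommRingCat.of K)).hom h2
    simp only [CommRingCat.comp_apply, CommRingCat.inv_hom_apply, CommRingCat.hom_ofHom, AlgHom.toRingHom_eq_coe,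
      RingHom.coe_coe] at h4
    show χ' d = 0
    rw [map_sub, sub_eq_zero]
    convert h4 using 1 <;> exact ((Scheme.ΓSpecIso (CommRingCat.of K)).commRingCatIsoToRingEquiv.apply_symm_apply _).symm
  have h0 : (1 : K) ⊗ₜ[R] d = 0 := algHom_separates hd
  have hd0 : d = 0 := Algebra.TensorProduct.includeRight_injective (R := R) (A := K) (B := A) hRK (by
    rw [map_zero]; exact h0)
  exact sub_eq_zero.1 hd0

end Groth.Agent.FinGrpLib
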